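import Mathlib
import Cfsg.Agent.Lib.Helper5.BNStRes
import Cfsg.Agent.Lib.Helper77.Deflation
import Cfsg.Agent.Lib.Helper3.IrrBasis

/-!
# helper44: Steinberg characters from a "root datum lite" (project CLST)

An abstract criterion for a group to carry a `Cfsg.BNPair`, tailored to matrix groups:
`B = T U`, `N = ⟨s_i⟩ T`, and for every fundamental reflection `s_i` a root group `X_i ≤ U` with a
complement `Y_i` (`U = Y_i X_i`, `s_i Y_i s_i⁻¹ ≤ U`), the dichotomy `n⁻¹ X_i n ≤ U` or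
`(s_i n)⁻¹ X_i (s_i n) ≤ U` for `n ∈ N`, and the rank one relation `s_i x s_i⁻¹ ∈ X_i T s_i X_i`.
Then the Steinberg character of Helper5's abstract theory has degree `|U|`, vanishes on `U - 1`
and has the central elements of `T` in its kernel; finally a descent to a central quotient.
-/

set_option autoImplicit false

namespace Cfsg.Agent.Lib.Helper44.ClSt

open Cfsg

universe u v

/-- Root datum lite. -/
structure RootData (G : Type u) [Group G] (ι : Type v) where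
  T : Subgroup G
  U : Subgroup G
  B : Subgroup G
  N : Subgroup G
  s : ι → G
  X : ι → Subgroup G
  Y : ι → Subgroup G
  mem_B : ∀ g, g ∈ B ↔ ∃ t ∈ T, ∃ u ∈ U, g = t * u
  T_le_N : T ≤ N
  T_normal : ∀ n ∈ N, ∀ t ∈ T, n * t * n⁻¹ ∈ T
  T_norm_U : ∀ t ∈ T, ∀ u ∈ U, t * u * t⁻¹ ∈ U
  s_mem : ∀ i, s i ∈ N
  s_sq : ∀ i, s i * s i ∈ T
  X_le : ∀ i, X i ≤ U
  fact : ∀ i, ∀ u ∈ U, ∃ y ∈ Y i, ∃ x ∈ X i, u = y * x
  s_conj_Y : ∀ i, ∀ y ∈ Y i, s i * y * (s i)⁻¹ ∈ U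
  dich : ∀ i, ∀ n ∈ N, (∀ x ∈ X i, n⁻¹ * x * n ∈ U) ∨
    (∀ x ∈ X i, (s i * n)⁻¹ * x * (s i * n) ∈ U)
  rank1 : ∀ i, ∀ x ∈ X i, x ≠ 1 →
    ∃ x₁ ∈ X i, ∃ t ∈ T, ∃ x₂ ∈ X i, s i * x * (s i)⁻¹ = x₁ * t * s i * x₂
  inter : ∀ u ∈ U, u ∈ N → u = 1
  gen : N = Subgroup.closure (Set.range s) ⊔ T
  top : B ⊔ N = ⊤
  X_ne : ∀ i, ∃ x ∈ X i, x ≠ 1
  neg_not_B : ∀ i, ∀ x ∈ X i, x ≠ 1 → s i * x * (s i)⁻¹ ∉ B
  inj : ∀ i j, (s i)⁻¹ * s j ∈ T → i = j

namespace RootData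

variable {G : Type u} [Group G] {ι : Type v} (D : RootData G ι)

lemma T_le_B : D.T ≤ D.B := fun t ht => (D.mem_B t).2 ⟨t, ht, 1, D.U.one_mem, by simp⟩

lemma U_le_B : D.U ≤ D.B := fun u hu => (D.mem_B u).2 ⟨1, D.T.one_mem, u, hu, by simp⟩

lemma B_inf_N : D.B ⊓ D.N = D.T := by
  apply le_antisymm
  · rintro g ⟨hgB, hgN⟩
    obtain ⟨t, ht, u, hu, rfl⟩ := (D.mem_B g).1 hgB
    have huN : u ∈ D.N := by
      have : u = t⁻¹ * (t * u) := by group
      rw [this]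
      exact D.N.mul_mem (D.N.inv_mem (D.T_le_N ht)) hgN
    rw [D.inter u hu huN, mul_one]
    exact ht
  · exact le_inf D.T_le_B D.T_le_N

lemma T_inf_U : D.T ⊓ D.U = ⊥ := by
  rw [eq_bot_iff]
  rintro g ⟨hT, hU⟩
  exact D.inter g hU (D.T_le_N hT)

lemma conj_mem_U_of_mem_B {b u : G} (hb : b ∈ D.B) (hu : u ∈ D.U) : b * u * b⁻¹ ∈ D.U := by
  obtain ⟨t, ht, v, hv, rfl⟩ := (D.mem_B b).1 hb
  have : t * v * u * (t * v)⁻¹ = t * (v * u * v⁻¹) * t⁻¹ := by group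
  rw [this]
  exact D.T_norm_U t ht _ (D.U.mul_mem (D.U.mul_mem hv hu) (D.U.inv_mem hv))

/-- the key double coset computation -/
lemma mul_mem_union' (i : ι) {n b : G} (hn : n ∈ D.N) (hb : b ∈ D.B) :
    (∃ c ∈ D.B, ∃ d ∈ D.B, D.s i * b * n = c * (D.s i * n) * d) ∨
      (∃ c ∈ D.B, ∃ d ∈ D.B, D.s i * b * n = c * n * d) := by
  obtain ⟨t, ht, u, hu, rfl⟩ := (D.mem_B b).1 hb
  obtain ⟨y, hy, x, hx, rfl⟩ := D.fact i u hu
  set s := D.s i with hs
  have hsN : s ∈ D.N := D.s_mem i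
  have hb' : s * t * s⁻¹ * (s * y * s⁻¹) ∈ D.B :=
    D.B.mul_mem (D.T_le_B (D.T_normal s hsN t ht)) (D.U_le_B (D.s_conj_Y i y hy))
  have e0 : s * (t * (y * x)) * n = (s * t * s⁻¹ * (s * y * s⁻¹)) * (s * x * n) := by group
  rcases D.dich i n hn with h | h
  · left
    refine ⟨_, hb', n⁻¹ * x * n, D.U_le_B (h x hx), ?_⟩
    rw [e0]; group
  · by_cases hx1 : x = 1
    · left
      refine ⟨_, hb', 1, D.B.one_mem, ?_⟩
      rw [e0, hx1]; group
    · right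
      obtain ⟨x₁, hx₁, t', ht', x₂, hx₂, e⟩ := D.rank1 i x hx hx1
      rw [← hs] at e
      have hd : (s * n)⁻¹ * x₂ * (s * n) ∈ D.B := D.U_le_B (h x₂ hx₂)
      have hc : (s * t * s⁻¹ * (s * y * s⁻¹)) * (x₁ * t' * (s * s)) ∈ D.B :=
        D.B.mul_mem hb' (D.B.mul_mem (D.B.mul_mem (D.U_le_B (D.X_le i hx₁)) (D.T_le_B ht'))
          (D.T_le_B (D.s_sq i)))
      refine ⟨_, hc, _, hd, ?_⟩
      have e1 : s * x * n = (s * x * s⁻¹) * (s * n) := by group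
      rw [e0, e1, e]
      group

/-- **[G-BN]** the (B,N)-pair of a root datum lite. -/
def bnPair : Cfsg.BNPair G where
  B := D.B
  N := D.N
  S := Set.range D.s
  sup_eq_top := D.top
  conj_mem := by
    intro n hn t ht
    rw [D.B_inf_N] at ht
    exact D.T_le_B (D.T_normal n hn t ht)
  subset := by
    rintro _ ⟨i, rfl⟩
    exact D.s_mem i
  sq_mem := by
    rintro _ ⟨i, rfl⟩
    exact D.T_le_B (D.s_sq i)
  inj := by
    rintro _ ⟨i, rfl⟩ _ ⟨j, rfl⟩ h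
    have hN : (D.s i)⁻¹ * D.s j ∈ D.N := D.N.mul_mem (D.N.inv_mem (D.s_mem i)) (D.s_mem j)
    have : (D.s i)⁻¹ * D.s j ∈ D.B ⊓ D.N := ⟨h, hN⟩
    rw [D.B_inf_N] at this
    rw [D.inj i j this]
  closure_sup := by
    rw [D.B_inf_N, ← D.gen]
  mul_mem_union := by
    rintro _ ⟨i, rfl⟩ n hn b hb
    rcases D.mul_mem_union' i hn hb with ⟨c, hc, d, hd, e⟩ | ⟨c, hc, d, hd, e⟩
    · left
      rw [DoubleCoset.mem_doubleCoset]
      exact ⟨c, hc, d, hd, e⟩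
    · right
      rw [DoubleCoset.mem_doubleCoset]
      exact ⟨c, hc, d, hd, e⟩
  conj_ne := by
    rintro _ ⟨i, rfl⟩ h
    obtain ⟨x, hx, hx1⟩ := D.X_ne i
    have hxB : x ∈ D.B := D.U_le_B (D.X_le i hx)
    have h1 : D.s i * x * D.s i ∈ (fun b : G => D.s i * b * D.s i) '' (D.B : Set G) :=
      ⟨x, hxB, rfl⟩
    rw [h] at h1
    apply D.neg_not_B i x hx hx1
    have : D.s i * x * (D.s i)⁻¹ = (D.s i * x * D.s i) * (D.s i * D.s i)⁻¹ := by group
    rw [this]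
    exact D.B.mul_mem h1 (D.B.inv_mem (D.T_le_B (D.s_sq i)))

@[simp] lemma bnPair_B : D.bnPair.B = D.B := rfl
@[simp] lemma bnPair_N : D.bnPair.N = D.N := rfl
@[simp] lemma bnPair_S : D.bnPair.S = Set.range D.s := rfl

/-- Data for the longest element. -/
structure LongData where
  n₀ : G
  n₀_mem : n₀ ∈ D.N
  opp : ∀ i, ∀ x ∈ D.X i, (D.s i * n₀)⁻¹ * x * (D.s i * n₀) ∈ D.U
  big : ∀ b ∈ D.B, n₀⁻¹ * b * n₀ ∈ D.B → b ∈ D.T

section steinberg

open Cfsg.Agent.Lib.Helper5.BNSt Cfsg.Agent.Lib.Helper6 Cfsg.Agent.Lib.Helper5.CoxEx MulAction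

variable {D}

lemma isLongest (L : D.LongData) : IsLongest (SW D.bnPair) (clG D.bnPair L.n₀) := by
  apply isLongest_of_inDC D.bnPair L.n₀_mem
  rintro _ ⟨i, rfl⟩
  obtain ⟨x, hx, hx1⟩ := D.X_ne i
  refine ⟨x, D.U_le_B (D.X_le i hx), ?_⟩
  obtain ⟨x₁, hx₁, t', ht', x₂, hx₂, e⟩ := D.rank1 i x hx hx1
  refine ⟨x₁ * t' * (D.s i * D.s i), ?_, (D.s i * L.n₀)⁻¹ * x₂ * (D.s i * L.n₀), ?_, ?_⟩
  · exact D.B.mul_mem (D.B.mul_mem (D.U_le_B (D.X_le i hx₁)) (D.T_le_B ht')) (D.T_le_B (D.s_sq i))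
  · exact D.U_le_B (L.opp i x₂ hx₂)
  · have e1 : D.s i * x * L.n₀ = (D.s i * x * (D.s i)⁻¹) * (D.s i * L.n₀) := by group
    rw [e1, e]
    group

/-- `T` as a subgroup of `B` -/
def TB (D : RootData G ι) : Subgroup ↥D.bnPair.B := D.T.subgroupOf D.B

lemma mem_TB_iff (L : D.LongData) (b' : ↥D.bnPair.B) :
    b' ∈ D.TB ↔ L.n₀⁻¹ * (b' : G) * L.n₀ ∈ D.bnPair.B := by
  constructor
  · intro h
    have hT : (b' : G) ∈ D.T := h
    have := D.T_normal L.n₀⁻¹ (D.N.inv_mem L.n₀_mem) _ hT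
    rw [inv_inv] at this
    exact D.T_le_B this
  · intro h
    exact L.big _ b'.2 h

lemma card_quot_TB [Finite G] : Nat.card (↥D.bnPair.B ⧸ D.TB) = Nat.card D.U := by
  symm
  let f : D.U → ↥D.bnPair.B ⧸ D.TB := fun u => ((⟨u.1, D.U_le_B u.2⟩ : ↥D.bnPair.B) : ↥D.bnPair.B ⧸ D.TB)
  apply Nat.card_congr (Equiv.ofBijective f ⟨?_, ?_⟩)
  · intro u u' h
    have h' := QuotientGroup.eq.1 h
    have hT : (u.1)⁻¹ * u'.1 ∈ D.T := h'
    have hU : (u.1)⁻¹ * u'.1 ∈ D.U := D.U.mul_mem (D.U.inv_mem u.2) u'.2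
    have h1 := D.inter _ hU (D.T_le_N hT)
    apply Subtype.ext
    exact inv_mul_eq_one.1 h1
  · intro q
    induction q using QuotientGroup.induction_on with
    | H b =>
      obtain ⟨t, ht, u, hu, hb⟩ := (D.mem_B b.1).1 b.2
      refine ⟨⟨t * u * t⁻¹, D.T_norm_U t ht u hu⟩, ?_⟩
      apply QuotientGroup.eq.2
      show (t * u * t⁻¹)⁻¹ * b.1 ∈ D.T
      rw [hb]
      have : (t * u * t⁻¹)⁻¹ * (t * u) = t := by group
      rw [this]
      exact ht

lemma fixedBy_TB_eq_empty {u : G} (hu : u ∈ D.U) (hu1 : u ≠ 1) :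
    fixedBy (↥D.bnPair.B ⧸ D.TB) (⟨u, D.U_le_B hu⟩ : ↥D.bnPair.B) = ∅ := by
  rw [Set.eq_empty_iff_forall_notMem]
  intro q hq
  induction q using QuotientGroup.induction_on with
  | H c =>
    rw [mem_fixedBy, MulAction.Quotient.smul_mk, QuotientGroup.eq] at hq
    have hT : ((⟨u, D.U_le_B hu⟩ : ↥D.bnPair.B) • c)⁻¹ * c ∈ D.TB := hq
    have hT' : (u * c.1)⁻¹ * c.1 ∈ D.T := hT
    have hU : (u * c.1)⁻¹ * c.1 ∈ D.U := by
      have e : (u * c.1)⁻¹ * c.1 = (c.1)⁻¹ * u⁻¹ * ((c.1)⁻¹)⁻¹ := by group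
      rw [e]
      exact D.conj_mem_U_of_mem_B (D.B.inv_mem c.2) (D.U.inv_mem hu)
    have h1 := D.inter _ hU (D.T_le_N hT')
    apply hu1
    have : u = ((u * c.1)⁻¹ * c.1)⁻¹ ^ (1 : ℕ) := by
      rw [pow_one]
      have e2 : ((u * c.1)⁻¹ * c.1)⁻¹ = (c.1)⁻¹ * u * c.1 := by group
      rw [h1] at e2
      have e3 : (c.1)⁻¹ * u * c.1 = 1 := e2.symm.trans inv_one
      have : u = c.1 * ((c.1)⁻¹ * u * c.1) * (c.1)⁻¹ := by group
      rw [this, e3]
      group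
    rw [this, h1]
    simp

lemma fpc_center_mul (H : Subgroup G) {z : G} (hz : z ∈ Subgroup.center G) (hzH : z ∈ H) (g : G) :
    fixedPointCharacter H (z * g) = fixedPointCharacter H g := by
  unfold fixedPointCharacter
  have hset : fixedBy (G ⧸ H) (z * g) = fixedBy (G ⧸ H) g := by
    ext a
    simp only [mem_fixedBy]
    induction a using QuotientGroup.induction_on with
    | H x =>
      have : (z * g) • (x : G ⧸ H) = g • (x : G ⧸ H) := by
        show (((z * g) * x : G) : G ⧸ H) = ((g * x : G) : G ⧸ H)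
        rw [QuotientGroup.eq]
        have e : (z * g * x)⁻¹ * (g * x) = z⁻¹ := by
          have hc := Subgroup.mem_center_iff.mp hz (g * x)
          calc (z * g * x)⁻¹ * (g * x) = (z * (g * x))⁻¹ * (g * x) := by rw [mul_assoc]
            _ = ((g * x) * z)⁻¹ * (g * x) := by rw [hc]
            _ = z⁻¹ := by group
        rw [e]
        exact H.inv_mem hzH
      rw [this]
  rw [hset]

variable [Fintype G] [Fintype ι] [DecidableEq ι]

/-- **[G-ST]** the Steinberg character of a finite group with a root datum lite. -/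
theorem exists_steinberg (L : D.LongData) :
    ∃ χ : G → ℂ, IsIrrCharacter G χ ∧ χ 1 = (Nat.card D.U : ℂ) ∧
      (∀ u ∈ D.U, u ≠ 1 → χ u = 0) ∧
      ∀ z ∈ Subgroup.center G, z ∈ D.T → ∀ g, χ (z * g) = χ g := by
  classical
  have hσ : ∀ i, D.s i ∈ D.bnPair.S := fun i => ⟨i, rfl⟩
  have hS : ∀ s ∈ D.bnPair.S, ∃ i, D.s i = s := by
    rintro _ ⟨i, rfl⟩
    exact ⟨i, rfl⟩
  have hres := stChar_restrict_B D.bnPair D.s hσ hS L.n₀_mem (isLongest L) D.TB (mem_TB_iff L)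
  refine ⟨stChar D.bnPair D.s, isIrrCharacter_stChar D.bnPair D.s hσ hS, ?_, ?_, ?_⟩
  · have h1 := hres 1
    rw [Subgroup.coe_one] at h1
    rw [h1]
    unfold fixedPointCharacter
    have hu : fixedBy (↥D.bnPair.B ⧸ D.TB) (1 : ↥D.bnPair.B) = Set.univ := by
      ext a
      simp only [Set.mem_univ, iff_true]
      exact one_smul _ a
    rw [hu, Nat.card_congr (Equiv.Set.univ _), card_quot_TB]
  · intro u hu hu1
    have h1 := hres ⟨u, D.U_le_B hu⟩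
    rw [h1]
    unfold fixedPointCharacter
    rw [fixedBy_TB_eq_empty hu hu1]
    simp
  · intro z hz hzT g
    unfold stChar
    apply Finset.sum_congr rfl
    intro J _
    congr 1
    apply fpc_center_mul _ hz
    have : D.bnPair.B ≤ D.bnPair.parabolic (D.s '' (J : Set ι)) := le_sup_left
    exact this (D.T_le_B hzT)

end steinberg

end RootData

/-- **[G-QUOT]** descent of a Steinberg-like character to a central quotient of order prime
to `p`, and to all Sylow `p`-subgroups. -/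
theorem exists_quotient_steinberg {G : Type u} [Group G] [Fintype G] (p : ℕ) [Fact p.Prime]
    (Z : Subgroup G) [Z.Normal] (hZp : ¬ p ∣ Nat.card Z)
    (U : Subgroup G) (hU : IsPGroup p U) (hUi : ¬ p ∣ U.index)
    (χ : G → ℂ) (hχ : IsIrrCharacter G χ) (h1 : χ 1 = (Nat.card U : ℂ))
    (h0 : ∀ u ∈ U, u ≠ 1 → χ u = 0) (hz : ∀ z ∈ Z, ∀ g, χ (z * g) = χ g) :
    ∃ χ' : G ⧸ Z → ℂ, IsIrrCharacter (G ⧸ Z) χ' ∧ ∀ P : Sylow p (G ⧸ Z),
      χ' 1 = (Nat.card P : ℂ) ∧ ∀ x : G ⧸ Z, x ∈ P → x ≠ 1 → χ' x = 0 := by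
  classical
  have hp : p.Prime := Fact.out
  obtain ⟨χ', hirr', hχ'⟩ := Cfsg.Agent.Lib.Helper77.isIrrCharacter_deflate Z hχ (fun n hn => by
    have := hz n hn 1
    rwa [mul_one] at this)
  have hcl : IsClassFunction G χ := Cfsg.Agent.Lib.Helper3.IsIrrCharacter.isClassFunction hχ
  let US : Sylow p G := hU.toSylow hUi
  have hUS : (US : Subgroup G) = U := IsPGroup.toSylow_coe hU hUi
  refine ⟨χ', hirr', fun P => ⟨?_, ?_⟩⟩
  · have e1 : χ' 1 = χ 1 := hχ' 1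
    rw [e1, h1]
    congr 1
    have hc1 : Nat.card U = p ^ (Nat.card G).factorization p := by
      rw [← hUS]; exact Sylow.card_eq_multiplicity US
    have hc2 : Nat.card P = p ^ (Nat.card (G ⧸ Z)).factorization p := Sylow.card_eq_multiplicity P
    have hc3 : Nat.card G = Nat.card (G ⧸ Z) * Nat.card Z :=
      Subgroup.card_eq_card_quotient_mul_card_subgroup Z
    have hZ0 : (Nat.card Z).factorization p = 0 := Nat.factorization_eq_zero_of_not_dvd hZp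
    rw [hc1, hc2, hc3, Nat.factorization_mul Nat.card_pos.ne' Nat.card_pos.ne', Finsupp.add_apply,
      hZ0, add_zero]
  · intro x hxP hx1
    obtain ⟨k, hk⟩ := P.isPGroup' ⟨x, hxP⟩
    have hk' : x ^ p ^ k = 1 := by
      have := congrArg Subtype.val hk
      simpa using this
    have hpk : 1 < p ^ k := by
      rcases Nat.eq_zero_or_pos k with h0 | hpos
      · exfalso; rw [h0, pow_zero, pow_one] at hk'; exact hx1 hk'
      · exact Nat.one_lt_pow hpos.ne' hp.one_lt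
    obtain ⟨g₀, rfl⟩ := QuotientGroup.mk_surjective x
    set n := Nat.card Z with hn
    have hcop : Nat.Coprime n (p ^ k) :=
      Nat.Coprime.pow_right k ((Nat.Coprime.symm ((Nat.Prime.coprime_iff_not_dvd hp).2 hZp)))
    obtain ⟨m, -, hm⟩ := Nat.exists_mul_mod_eq_one_of_coprime hcop hpk
    have hgZ : g₀ ^ p ^ k ∈ Z := by
      rw [← QuotientGroup.eq_one_iff, QuotientGroup.mk_pow]
      exact hk'
    have hgn : (g₀ ^ p ^ k) ^ n = 1 := by
      have h2 : ((⟨g₀ ^ p ^ k, hgZ⟩ : Z) ^ n : Z) = 1 := pow_card_eq_one'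
      have h3 := congrArg Subtype.val h2
      rw [Subgroup.coe_pow] at h3
      exact h3
    set s := g₀ ^ (n * m) with hs
    have hspk : s ^ p ^ k = 1 := by
      rw [hs, ← pow_mul]
      have : n * m * p ^ k = p ^ k * n * m := by ring
      rw [this, pow_mul, pow_mul, hgn, one_pow]
    have hmk : (QuotientGroup.mk s : G ⧸ Z) = QuotientGroup.mk g₀ := by
      rw [hs, QuotientGroup.mk_pow]
      have e := Nat.div_add_mod (n * m) (p ^ k)
      rw [← e, pow_add, pow_mul, hk', one_pow, one_mul, hm, pow_one]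
    have hs1 : s ≠ 1 := by
      intro h
      apply hx1
      rw [← hmk, h]
      rfl
    have hpg : IsPGroup p (Subgroup.zpowers s) := by
      rintro ⟨y, hy⟩
      obtain ⟨j, rfl⟩ := Subgroup.mem_zpowers_iff.1 hy
      refine ⟨k, ?_⟩
      apply Subtype.ext
      show (s ^ j) ^ p ^ k = 1
      rw [← zpow_natCast, ← zpow_mul, mul_comm, zpow_mul, zpow_natCast, hspk, one_zpow]
    obtain ⟨Q, hQ⟩ := hpg.exists_le_sylow
    obtain ⟨g, hg⟩ := MulAction.exists_smul_eq G Q US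
    have hsQ : s ∈ Q := hQ (Subgroup.mem_zpowers s)
    have hgU : g * s * g⁻¹ ∈ U := by
      rw [← hUS, ← hg, Sylow.coe_subgroup_smul, Subgroup.mem_pointwise_smul_iff_inv_smul_mem]
      have : (MulAut.conj g)⁻¹ • (g * s * g⁻¹) = s := by
        rw [← map_inv, MulAut.smul_def, MulAut.conj_apply]; group
      show (MulAut.conj g)⁻¹ • (g * s * g⁻¹) ∈ (Q : Subgroup G)
      rw [this]; exact hsQ
    have hne : g * s * g⁻¹ ≠ 1 := by
      intro h
      apply hs1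
      have : s = g⁻¹ * (g * s * g⁻¹) * g := by group
      rw [this, h]; group
    rw [← hmk, hχ' s, ← hcl s g]
    exact h0 _ hgU hne

end Cfsg.Agent.Lib.Helper44.ClSt
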