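import Mathlib
import Cfsg.Agent.Lib.Helper44.ClSt.Abs
import Cfsg.Agent.Lib.Helper6.BNParabolic

/-!
# helper44: from a root datum lite to the Steinberg row (project CLST)

`RootData.exists_row`: a finite group with a `RootData`, a `LongData`, `U` a `p`-group and
`p ∤ |T|` has an irreducible character on `G ⧸ center G` of degree `|P|` vanishing on `P - 1`, for
every Sylow `p`-subgroup `P` of the quotient.  No order formula is needed: `p ∤ |G : U|` comes from
the fixed points of `U` on `G ⧸ B` (Bruhat decomposition), and `center G ≤ T` from `N_G(B) = B`.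
-/

set_option autoImplicit false

namespace Cfsg.Agent.Lib.Helper44.ClSt

open Cfsg Cfsg.Agent.Lib.Helper6

universe u v

namespace RootData

variable {G : Type u} [Group G] {ι : Type v} {D : RootData G ι}

/-- the centre lies in the torus. -/
lemma center_le_T (L : D.LongData) : Subgroup.center G ≤ D.T := by
  intro z hz
  have hzc : ∀ g : G, g * z = z * g := fun g => Subgroup.mem_center_iff.1 hz g
  have hzB : z ∈ D.B := by
    have := mem_of_conj_le D.bnPair (H := D.B) (le_refl _) (g := z) (fun b hb => by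
      have e : z * b * z⁻¹ = b := by rw [← hzc b]; group
      rw [e]; exact hb)
    exact this
  apply L.big z hzB
  have e : L.n₀⁻¹ * z * L.n₀ = z := by rw [mul_assoc, ← hzc]; group
  rw [e]; exact hzB

/-- an element of `N` conjugating `U` into `B` lies in `B`. -/
lemma mem_B_of_conj_U {n : G} (hn : n ∈ D.N) (h : ∀ u ∈ D.U, n⁻¹ * u * n ∈ D.B) : n ∈ D.B := by
  by_contra hnB
  have hn' : n ∈ D.bnPair.N := hn
  have hlen : len D.bnPair n ≠ 0 := fun h0 => hnB ((len_eq_zero_iff D.bnPair hn').1 h0)
  obtain ⟨l, hrep, hl⟩ := exists_rep_len D.bnPair hn'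
  cases l with
  | nil => exact hlen (by simpa using hl.symm)
  | cons s l' =>
    have hs : s ∈ D.bnPair.S := hrep.1 s (by simp)
    have hl' : IsWord D.bnPair.S l' := fun x hx => hrep.1 x (by simp [hx])
    have hl'N : l'.prod ∈ D.bnPair.N := prod_mem_N D.bnPair hl'
    have hrel : Rel D.bnPair (s * n) l'.prod := by
      have h1 : Rel D.bnPair (s * n) (s * (s * l'.prod)) := by
        apply rel_mul_left D.bnPair s
        apply rel_symm D.bnPair
        simpa using hrep.2
      exact rel_trans D.bnPair h1 (rel_sq_mul D.bnPair hs hl'N)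
    have hlen2 : len D.bnPair (s * n) ≤ l'.length := by
      rw [len_congr D.bnPair hrel]; exact len_le_of_rep D.bnPair (rep_prod D.bnPair hl')
    have hle : len D.bnPair (s * n) ≤ len D.bnPair n := by
      simp only [List.length_cons] at hl; omega
    apply not_good_of_len_le D.bnPair hn' hs hle
    intro b hb
    obtain ⟨t, ht, u, hu, rfl⟩ := (D.mem_B b).1 hb
    have e : s * (t * u) * n = (s * t * s⁻¹) * (s * n) * (n⁻¹ * u * n) := by group
    rw [e]
    exact ⟨s * t * s⁻¹, D.T_le_B (D.T_normal s (S_mem_N D.bnPair hs) t ht), n⁻¹ * u * n, h u hu, rfl⟩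

/-- an element conjugating `U` into `B` lies in `B`. -/
lemma mem_B_of_conj_U' {g : G} (h : ∀ u ∈ D.U, g⁻¹ * u * g ∈ D.B) : g ∈ D.B := by
  obtain ⟨n, hn, x, hx, y, hy, e⟩ := bruhat_exists D.bnPair g
  have hx' : x ∈ D.B := hx
  have hy' : y ∈ D.B := hy
  have hnB : n ∈ D.B := mem_B_of_conj_U hn (fun u hu => by
    have hu' := D.conj_mem_U_of_mem_B hx' hu
    have := h _ hu'
    have e2 : n⁻¹ * u * n = y * (g⁻¹ * (x * u * x⁻¹) * g) * y⁻¹ := by rw [e]; group
    rw [e2]
    exact D.B.mul_mem (D.B.mul_mem hy' this) (D.B.inv_mem hy'))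
  rw [e]; exact D.B.mul_mem (D.B.mul_mem hx' hnB) hy'

section finite

variable [Finite G]

lemma card_B_eq : Nat.card D.B = Nat.card D.T * Nat.card D.U := by
  have h1 := Subgroup.card_eq_card_quotient_mul_card_subgroup (D.TB)
  rw [card_quot_TB] at h1
  have h2 : Nat.card D.TB = Nat.card D.T :=
    Nat.card_congr (Subgroup.subgroupOfEquivOfLe D.T_le_B).toEquiv
  have h3 : Nat.card D.B = Nat.card (↥D.bnPair.B) := rfl
  rw [h3, h1, h2, mul_comm]

/-- `p ∤ |G : B|`. -/
lemma not_dvd_index_B (p : ℕ) [Fact p.Prime] (hU : IsPGroup p D.U) : ¬ p ∣ D.B.index := by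
  have hp : p.Prime := Fact.out
  have hmod := hU.card_modEq_card_fixedPoints (G ⧸ D.B)
  have hfix : MulAction.fixedPoints (↥D.U) (G ⧸ D.B) = {((1 : G) : G ⧸ D.B)} := by
    ext a
    induction a using QuotientGroup.induction_on with
    | H g =>
      simp only [MulAction.mem_fixedPoints, Set.mem_singleton_iff]
      constructor
      · intro h
        have hg : g ∈ D.B := by
          apply mem_B_of_conj_U'
          intro v hv
          have := h ⟨v⁻¹, D.U.inv_mem hv⟩
          have this' : ((v⁻¹ * g : G) : G ⧸ D.B) = (g : G ⧸ D.B) := this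
          rw [QuotientGroup.eq] at this'
          simpa [mul_assoc] using this' 
        rw [QuotientGroup.eq]
        simpa using hg
      · intro h v
        rw [QuotientGroup.eq] at h
        have hg : g ∈ D.B := by simpa using h
        show (((v : G) * g : G) : G ⧸ D.B) = (g : G ⧸ D.B)
        rw [QuotientGroup.eq]
        have e : ((v : G) * g)⁻¹ * g = g⁻¹ * (v : G)⁻¹ * g := by simp [mul_assoc]
        rw [e]
        exact D.B.mul_mem (D.B.mul_mem (D.B.inv_mem hg) (D.B.inv_mem (D.U_le_B v.2))) hg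
  have hone : Nat.card ↥({((1 : G) : G ⧸ D.B)} : Set (G ⧸ D.B)) = 1 := by simp
  rw [hfix, hone] at hmod
  intro hdvd
  rw [Subgroup.index_eq_card] at hdvd
  have h0 : Nat.card (G ⧸ D.B) % p = 0 := Nat.mod_eq_zero_of_dvd hdvd
  have h1 : Nat.card (G ⧸ D.B) % p = 1 % p := hmod
  rw [h0, Nat.mod_eq_of_lt hp.one_lt] at h1
  exact zero_ne_one h1

/-- `p ∤ |G : U|`: `U` is a Sylow `p`-subgroup. -/
lemma not_dvd_index_U (p : ℕ) [Fact p.Prime] (hU : IsPGroup p D.U) (hT : ¬ p ∣ Nat.card D.T) :
    ¬ p ∣ D.U.index := by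
  have hp : p.Prime := Fact.out
  have h1 := Subgroup.card_mul_index D.U
  have h2 := Subgroup.card_mul_index D.B
  rw [card_B_eq] at h2
  have h3 : D.U.index = Nat.card D.T * D.B.index := by
    have hpos : 0 < Nat.card D.U := Nat.card_pos
    apply Nat.eq_of_mul_eq_mul_left hpos
    rw [h1, ← h2]; ring
  rw [h3]
  intro h
  rcases hp.dvd_mul.1 h with h | h
  · exact hT h
  · exact not_dvd_index_B p hU h

end finite

/-- **[G-ROW]** the Steinberg row for a finite group with a root datum lite: an irreducible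
character of `G ⧸ center G` of degree `|P|` vanishing on `P - 1` for all Sylow `p`-subgroups. -/
theorem exists_row [Fintype G] [Fintype ι] [DecidableEq ι] (L : D.LongData) (p : ℕ)
    [Fact p.Prime] (hU : IsPGroup p D.U) (hT : ¬ p ∣ Nat.card D.T) :
    ∃ χ : G ⧸ Subgroup.center G → ℂ, IsIrrCharacter (G ⧸ Subgroup.center G) χ ∧
      ∀ P : Sylow p (G ⧸ Subgroup.center G),
        χ 1 = (Nat.card P : ℂ) ∧ ∀ x : G ⧸ Subgroup.center G, x ∈ P → x ≠ 1 → χ x = 0 := by
  obtain ⟨χ, hχ, h1, h0, hz⟩ := exists_steinberg L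
  have hZT := center_le_T L
  have hZp : ¬ p ∣ Nat.card (Subgroup.center G) := fun h =>
    hT (h.trans (Subgroup.card_dvd_of_le hZT))
  exact exists_quotient_steinberg p (Subgroup.center G) hZp D.U hU (not_dvd_index_U p hU hT) χ hχ
    h1 h0 (fun z hz' g => hz z hz' (hZT hz') g)

end RootData

end Cfsg.Agent.Lib.Helper44.ClSt
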